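import Cfsg.Agent.Lib.H28.HeM.CertA.Run
import Cfsg.Agent.Lib.H28.HeM.RelStruct

set_option autoImplicit false
set_option maxRecDepth 100000

/-!
# First certificate for the Held group: the lift of `b` is an involution (helper28)

In a group with elements `a, b, c, d, e` satisfying `(bc)³ = (de)³ = 1`, `e = (abc)³`,
`a = (cd)⁵`, in which `a` and `b` commute with `d` and `e`, `b² = c²`, `d² = e²`, and the elements
`a², b², d², (ab)⁴, [a,c], [c,e]` are central of order at most two, we have `b² = 1` and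
`(ab)⁴ = 1`.  Certified part of a coset enumeration over `⟨bc⟩`.
-/

namespace Cfsg.Agent.Lib.H28.HeM.CertA

open Cfsg.Agent.Lib.H17.CosetCert Cfsg.Agent.Lib.H28.CosetCertD Cfsg.Agent.Lib.H28.HeM.RelStruct
  Cfsg.Agent.Lib.H28.HeM

/-- inverse letter: letters `a A b B c C d D e E` -/
def inv (x : ℕ) : ℕ := [1, 0, 3, 2, 5, 4, 7, 6, 9, 8].getD x x

/-- the base relators -/
def baseL : List (List ℕ) := [
  [2, 4, 2, 4, 2, 4],
  [6, 8, 6, 8, 6, 8],
  [8, 5, 3, 1, 5, 3, 1, 5, 3, 1],
  [0, 7, 5, 7, 5, 7, 5, 7, 5, 7, 5],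
  [1, 7, 0, 6],
  [1, 9, 0, 8],
  [3, 7, 2, 6],
  [3, 9, 2, 8],
  [2, 2, 5, 5],
  [6, 6, 9, 9]]

/-- the central words -/
def bitL : List (List ℕ) := [[0, 0], [2, 2], [6, 6], [0, 2, 0, 2, 0, 2, 0, 2], [1, 5, 0, 4], [5, 9, 4, 8]]

theorem relL_sub : ∀ w ∈ relL, w ∈ fullL inv [0, 2, 4, 6, 8] (List.range 10) baseL bitL bitL := by
  decide +kernel

theorem eq_one_of_mem_zpowers {G : Type*} [Group G] {x t : G} (hx : x ^ 3 = 1)
    (ht : t ∈ Subgroup.zpowers x) (h2 : t * t = 1) : t = 1 := by
  obtain ⟨k, rfl⟩ := Subgroup.mem_zpowers_iff.1 ht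
  have h3 : (x ^ k) ^ 3 = 1 := by
    rw [← zpow_natCast, ← zpow_mul, mul_comm, zpow_mul, zpow_natCast, hx, one_zpow]
  have : x ^ k = (x ^ k) ^ 3 * ((x ^ k) * (x ^ k))⁻¹ := by group
  rw [this, h3, h2]
  simp

variable {G : Type*} [Group G]

theorem main (a b c d e : G)
    (h1 : (b * c) ^ 3 = 1) (h2 : (d * e) ^ 3 = 1) (h3 : e = (a * b * c) ^ 3)
    (h4 : a = (c * d) ^ 5) (h5 : a * d = d * a) (h6 : a * e = e * a) (h7 : b * d = d * b)
    (h8 : b * e = e * b) (h9 : b * b = c * c) (h10 : d * d = e * e)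
    (hc : ∀ β ∈ [a * a, b * b, d * d, (a * b) ^ 4, a⁻¹ * c⁻¹ * a * c, c⁻¹ * e⁻¹ * c * e],
      β ∈ Subgroup.center G ∧ β * β = 1) :
    b * b = 1 ∧ (a * b) ^ 4 = 1 := by
  set g : ℕ → G := fun x => [a, a⁻¹, b, b⁻¹, c, c⁻¹, d, d⁻¹, e, e⁻¹].getD x 1 with hg
  have hinv : ∀ x, g (inv x) = (g x)⁻¹ := by
    intro x
    by_cases hx : x < 10
    · interval_cases x <;> simp [hg, inv]
    · have h10 : 10 ≤ x := by omega
      simp [hg, inv, List.getD_eq_default, h10]
  have hbits : ∀ β ∈ bitL, (β.map g).prod ∈ Subgroup.center G ∧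
      (β.map g).prod * (β.map g).prod = 1 := by
    intro β hβ
    simp only [bitL, List.mem_cons, List.not_mem_nil, or_false] at hβ
    rcases hβ with rfl | rfl | rfl | rfl | rfl | rfl
    · have := hc (a * a) (by simp)
      simpa [hg] using this
    · have := hc (b * b) (by simp)
      simpa [hg] using this
    · have := hc (d * d) (by simp)
      simpa [hg] using this
    · have := hc ((a * b) ^ 4) (by simp)
      have e : ([0, 2, 0, 2, 0, 2, 0, 2].map g).prod = (a * b) ^ 4 := by
        simp only [hg, List.map_cons, List.map_nil, List.prod_cons, List.prod_nil, List.getD_cons_zero,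
          List.getD_cons_succ, pow_succ, pow_zero, one_mul, mul_assoc, mul_one]
      rw [e]
      exact this
    · have := hc (a⁻¹ * c⁻¹ * a * c) (by simp)
      have e : ([1, 5, 0, 4].map g).prod = a⁻¹ * c⁻¹ * a * c := by
        simp only [hg, List.map_cons, List.map_nil, List.prod_cons, List.prod_nil, List.getD_cons_zero,
          List.getD_cons_succ, pow_succ, pow_zero, one_mul, mul_assoc, mul_one]
      rw [e]
      exact this
    · have := hc (c⁻¹ * e⁻¹ * c * e) (by simp)
      have e' : ([5, 9, 4, 8].map g).prod = c⁻¹ * e⁻¹ * c * e := by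
        simp only [hg, List.map_cons, List.map_nil, List.prod_cons, List.prod_nil, List.getD_cons_zero,
          List.getD_cons_succ, pow_succ, pow_zero, one_mul, mul_assoc, mul_one]
      rw [e']
      exact this
  have hbase : ∀ w ∈ baseL, (w.map g).prod = 1 := by
    have k3 : e * ((a * b * c) ^ 3)⁻¹ = 1 := by rw [← h3]; exact mul_inv_cancel e
    have k4 : a * ((c * d) ^ 5)⁻¹ = 1 := by rw [← h4]; exact mul_inv_cancel a
    have k5 : a⁻¹ * (d⁻¹ * (a * d)) = 1 := by rw [h5]; group
    have k6 : a⁻¹ * (e⁻¹ * (a * e)) = 1 := by rw [h6]; group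
    have k7 : b⁻¹ * (d⁻¹ * (b * d)) = 1 := by rw [h7]; group
    have k8 : b⁻¹ * (e⁻¹ * (b * e)) = 1 := by rw [h8]; group
    have k9 : b * (b * (c⁻¹ * c⁻¹)) = 1 := by rw [← mul_assoc, h9]; group
    have k10 : d * (d * (e⁻¹ * e⁻¹)) = 1 := by rw [← mul_assoc, h10]; group
    have k1 := h1
    have k2 := h2
    simp only [pow_succ, pow_zero, one_mul, mul_assoc, mul_inv_rev] at k1 k2 k3 k4
    intro w hw
    simp only [baseL, List.mem_cons, List.not_mem_nil, or_false] at hw
    rcases hw with rfl | rfl | rfl | rfl | rfl | rfl | rfl | rfl | rfl | rfl <;>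
      simp only [hg, List.map_cons, List.map_nil, List.prod_cons, List.prod_nil, List.getD_cons_zero,
        List.getD_cons_succ, mul_one]
    · exact k1
    · exact k2
    · exact k3
    · exact k4
    · exact k5
    · exact k6
    · exact k7
    · exact k8
    · exact k9
    · exact k10
  have hfull := rel_of_struct g inv hinv [0, 2, 4, 6, 8] (List.range 10) baseL bitL bitL hbase
    (fun β hβ => (hbits β hβ).1) (fun β hβ => (hbits β hβ).2)
  have hrel : ∀ w ∈ relL, (w.map g).prod = 1 := fun w hw => hfull w (relL_sub w hw)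
  set E : Subgroup G := Subgroup.zpowers (b * c) with hE
  have hsub : ∀ w ∈ subL, (w.map g).prod ∈ E := by
    intro w hw
    simp only [subL, List.mem_cons, List.not_mem_nil, or_false] at hw
    subst hw
    simp only [hg, List.map_cons, List.map_nil, List.prod_cons, List.prod_nil, List.getD_cons_zero,
      List.getD_cons_succ, mul_one]
    exact Subgroup.mem_zpowers _
  have hOK := CertGlue.wordsOK words relL subL words_spec g hrel E hsub
  have m0 := CertGlue.prod_mem_of_fix g E pw0 (fix0 _ _ hOK)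
  have m1 := CertGlue.prod_mem_of_fix g E pw1 (fix1 _ _ hOK)
  have e0 : (pw0.map g).prod = b * b := by
    simp only [pw0, hg, List.map_cons, List.map_nil, List.prod_cons, List.prod_nil,
      List.getD_cons_zero, List.getD_cons_succ, mul_one]
  have e1 : (pw1.map g).prod = (a * b) ^ 4 := by
    simp only [pw1, hg, List.map_cons, List.map_nil, List.prod_cons, List.prod_nil,
      List.getD_cons_zero, List.getD_cons_succ, pow_succ, pow_zero, one_mul, mul_assoc, mul_one]
  rw [e0] at m0
  rw [e1] at m1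
  exact ⟨eq_one_of_mem_zpowers h1 m0 (hc _ (by simp)).2,
    eq_one_of_mem_zpowers h1 m1 (hc _ (by simp)).2⟩

end Cfsg.Agent.Lib.H28.HeM.CertA
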